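import Mathlib
import Cfsg.Agent.Lib.Helper56.TC
import Cfsg.Agent.Lib.Helper19.J1A.C0
import Cfsg.Agent.Lib.Helper19.J1A.C1
import Cfsg.Agent.Lib.Helper19.J1A.C2
import Cfsg.Agent.Lib.Helper19.J1A.C3
import Cfsg.Agent.Lib.Helper19.J1A.C4
import Cfsg.Agent.Lib.Helper19.J1A.C5
import Cfsg.Agent.Lib.Helper19.J1A.C6
import Cfsg.Agent.Lib.Helper19.J1A.C7
import Cfsg.Agent.Lib.Helper19.J1A.C8
import Cfsg.Agent.Lib.Helper19.J1A.C9
import Cfsg.Agent.Lib.Helper19.J1A.C10
import Cfsg.Agent.Lib.Helper19.PModel
set_option autoImplicit false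
set_option maxRecDepth 1000000

namespace Cfsg.Agent.Lib.Helper19.J1A

open Cfsg.Agent.Lib.Helper56.TC Cfsg.Agent.Lib.Helper56.TC.Tabs

theorem uN_596 : Upto T.chkName 596 := upto_add (upto_zero T.chkName) rfl cN_0
theorem uN_1205 : Upto T.chkName 1205 := upto_add uN_596 rfl cN_596
theorem uN_1814 : Upto T.chkName 1814 := upto_add uN_1205 rfl cN_1205
theorem uN_2399 : Upto T.chkName 2399 := upto_add uN_1814 rfl cN_1814
theorem uN_3008 : Upto T.chkName 3008 := upto_add uN_2399 rfl cN_2399
theorem uN_3582 : Upto T.chkName 3582 := upto_add uN_3008 rfl cN_3008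
theorem uN_4243 : Upto T.chkName 4243 := upto_add uN_3582 rfl cN_3582
theorem uN_4786 : Upto T.chkName 4786 := upto_add uN_4243 rfl cN_4243
theorem uN_5337 : Upto T.chkName 5337 := upto_add uN_4786 rfl cN_4786
theorem uN_5929 : Upto T.chkName 5929 := upto_add uN_5337 rfl cN_5337
theorem uN_6518 : Upto T.chkName 6518 := upto_add uN_5929 rfl cN_5929
theorem uN_7061 : Upto T.chkName 7061 := upto_add uN_6518 rfl cN_6518
theorem uN_7608 : Upto T.chkName 7608 := upto_add uN_7061 rfl cN_7061
theorem uN_8156 : Upto T.chkName 8156 := upto_add uN_7608 rfl cN_7608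
theorem uN_8766 : Upto T.chkName 8766 := upto_add uN_8156 rfl cN_8156
theorem uN_9416 : Upto T.chkName 9416 := upto_add uN_8766 rfl cN_8766
theorem uN_10006 : Upto T.chkName 10006 := upto_add uN_9416 rfl cN_9416
theorem uN_10547 : Upto T.chkName 10547 := upto_add uN_10006 rfl cN_10006
theorem uN_11087 : Upto T.chkName 11087 := upto_add uN_10547 rfl cN_10547
theorem uN_11616 : Upto T.chkName 11616 := upto_add uN_11087 rfl cN_11087
theorem uN_12156 : Upto T.chkName 12156 := upto_add uN_11616 rfl cN_11616
theorem uN_12714 : Upto T.chkName 12714 := upto_add uN_12156 rfl cN_12156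
theorem uN_13276 : Upto T.chkName 13276 := upto_add uN_12714 rfl cN_12714
theorem uN_13882 : Upto T.chkName 13882 := upto_add uN_13276 rfl cN_13276
theorem uN_14385 : Upto T.chkName 14385 := upto_add uN_13882 rfl cN_13882
theorem uN_14848 : Upto T.chkName 14848 := upto_add uN_14385 rfl cN_14385
theorem uN_15289 : Upto T.chkName 15289 := upto_add uN_14848 rfl cN_14848
theorem uN_15744 : Upto T.chkName 15744 := upto_add uN_15289 rfl cN_15289
theorem uN_16237 : Upto T.chkName 16237 := upto_add uN_15744 rfl cN_15744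
theorem uN_16708 : Upto T.chkName 16708 := upto_add uN_16237 rfl cN_16237
theorem uN_17163 : Upto T.chkName 17163 := upto_add uN_16708 rfl cN_16708
theorem uN_17678 : Upto T.chkName 17678 := upto_add uN_17163 rfl cN_17163
theorem uN_18131 : Upto T.chkName 18131 := upto_add uN_17678 rfl cN_17678
theorem uN_18518 : Upto T.chkName 18518 := upto_add uN_18131 rfl cN_18131
theorem uN_18882 : Upto T.chkName 18882 := upto_add uN_18518 rfl cN_18518
theorem uN_19289 : Upto T.chkName 19289 := upto_add uN_18882 rfl cN_18882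
theorem uN_19721 : Upto T.chkName 19721 := upto_add uN_19289 rfl cN_19289
theorem uN_20152 : Upto T.chkName 20152 := upto_add uN_19721 rfl cN_19721
theorem uN_20507 : Upto T.chkName 20507 := upto_add uN_20152 rfl cN_20152
theorem uN_20804 : Upto T.chkName 20804 := upto_add uN_20507 rfl cN_20507
theorem uN_21096 : Upto T.chkName 21096 := upto_add uN_20804 rfl cN_20804
theorem uN_21508 : Upto T.chkName 21508 := upto_add uN_21096 rfl cN_21096
theorem uN_21873 : Upto T.chkName 21873 := upto_add uN_21508 rfl cN_21508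
theorem uN_22201 : Upto T.chkName 22201 := upto_add uN_21873 rfl cN_21873
theorem uN_22569 : Upto T.chkName 22569 := upto_add uN_22201 rfl cN_22201
theorem uN_23039 : Upto T.chkName 23039 := upto_add uN_22569 rfl cN_22569
theorem uN_23319 : Upto T.chkName 23319 := upto_add uN_23039 rfl cN_23039
theorem uN_23554 : Upto T.chkName 23554 := upto_add uN_23319 rfl cN_23319
theorem uN_23861 : Upto T.chkName 23861 := upto_add uN_23554 rfl cN_23554
theorem uN_24154 : Upto T.chkName 24154 := upto_add uN_23861 rfl cN_23861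
theorem uN_24452 : Upto T.chkName 24452 := upto_add uN_24154 rfl cN_24154
theorem uN_24760 : Upto T.chkName 24760 := upto_add uN_24452 rfl cN_24452
theorem uN_24992 : Upto T.chkName 24992 := upto_add uN_24760 rfl cN_24760
theorem uN_25396 : Upto T.chkName 25396 := upto_add uN_24992 rfl cN_24992
theorem uN_25749 : Upto T.chkName 25749 := upto_add uN_25396 rfl cN_25396
theorem uN_25992 : Upto T.chkName 25992 := upto_add uN_25749 rfl cN_25749
theorem uN_26134 : Upto T.chkName 26134 := upto_add uN_25992 rfl cN_25992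
theorem uF_1071 : Upto T.chkFinName 1071 := upto_add (upto_zero T.chkFinName) rfl cF_0
theorem uF_2142 : Upto T.chkFinName 2142 := upto_add uF_1071 rfl cF_1071
theorem uF_3213 : Upto T.chkFinName 3213 := upto_add uF_2142 rfl cF_2142
theorem uF_4284 : Upto T.chkFinName 4284 := upto_add uF_3213 rfl cF_3213
theorem uF_5355 : Upto T.chkFinName 5355 := upto_add uF_4284 rfl cF_4284
theorem uF_6426 : Upto T.chkFinName 6426 := upto_add uF_5355 rfl cF_5355
theorem uF_7497 : Upto T.chkFinName 7497 := upto_add uF_6426 rfl cF_6426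
theorem uF_8568 : Upto T.chkFinName 8568 := upto_add uF_7497 rfl cF_7497
theorem uF_9639 : Upto T.chkFinName 9639 := upto_add uF_8568 rfl cF_8568
theorem uF_10710 : Upto T.chkFinName 10710 := upto_add uF_9639 rfl cF_9639
theorem uF_11781 : Upto T.chkFinName 11781 := upto_add uF_10710 rfl cF_10710
theorem uF_12852 : Upto T.chkFinName 12852 := upto_add uF_11781 rfl cF_11781
theorem uF_13923 : Upto T.chkFinName 13923 := upto_add uF_12852 rfl cF_12852
theorem uF_14994 : Upto T.chkFinName 14994 := upto_add uF_13923 rfl cF_13923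
theorem uF_16065 : Upto T.chkFinName 16065 := upto_add uF_14994 rfl cF_14994
theorem uF_17136 : Upto T.chkFinName 17136 := upto_add uF_16065 rfl cF_16065
theorem uF_18207 : Upto T.chkFinName 18207 := upto_add uF_17136 rfl cF_17136
theorem uF_19278 : Upto T.chkFinName 19278 := upto_add uF_18207 rfl cF_18207
theorem uF_20349 : Upto T.chkFinName 20349 := upto_add uF_19278 rfl cF_19278
theorem uF_21420 : Upto T.chkFinName 21420 := upto_add uF_20349 rfl cF_20349
theorem uF_22491 : Upto T.chkFinName 22491 := upto_add uF_21420 rfl cF_21420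
theorem uF_23562 : Upto T.chkFinName 23562 := upto_add uF_22491 rfl cF_22491
theorem uF_24633 : Upto T.chkFinName 24633 := upto_add uF_23562 rfl cF_23562
theorem uF_25080 : Upto T.chkFinName 25080 := upto_add uF_24633 rfl cF_24633

/-- The certificate for the upper bound is valid. -/
theorem certU : Cfsg.Agent.Lib.Helper19.PM.CertU T where
  h0 := by decide +kernel
  hrx := by decide +kernel
  hname := uN_26134
  hfin := uF_25080

end Cfsg.Agent.Lib.Helper19.J1A
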